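import Cfsg.Agent.Lib.ThreeTrans.Basic
import Cfsg.Agent.Lib.Cores.Basic
import Cfsg.Agent.Lib.CharApp.Burnside

/-!
# Blocks of a 3-transposition group with trivial solvable radical

Main result: `no_block`: no invariant uniform equivalence relation on `D` has a nontrivial class
that is either commutative or commutes with a different class.
-/

set_option autoImplicit false
set_option linter.style.haveILetI false

namespace Cfsg.Agent.ThreeTransRank

open Cfsg Cfsg.Agent.ThreeTrans
open scoped commutatorElement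

variable {G : Type*} [Group G] {D : Set G}

/-- The solvable radical is trivial. -/
def TrivialRadical (G : Type*) [Group G] : Prop :=
  ∀ N : Subgroup G, N.Normal → Group.IsSolvable ↥N → N = ⊥

/-- An invariant equivalence on `D` whose classes are modules of the commuting graph. -/
structure IsUniformEquiv (D : Set G) (r : G → G → Prop) : Prop where
  refl : ∀ a ∈ D, r a a
  symm : ∀ a b, a ∈ D → b ∈ D → r a b → r b a
  trans : ∀ a b c, a ∈ D → b ∈ D → c ∈ D → r a b → r b c → r a c
  conj : ∀ g a b, a ∈ D → b ∈ D → r a b → r (g * a * g⁻¹) (g * b * g⁻¹)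
  uniform : ∀ a b d, a ∈ D → b ∈ D → d ∈ D → r a b → ¬ r a d → Commute d a → Commute d b

theorem normal_of_generators [Finite G] (hD : IsThreeTranspositionGroup D) (L : Subgroup G)
    (h : ∀ d ∈ D, ∀ l ∈ L, d * l * d⁻¹ ∈ L) : L.Normal := by
  have hle : Subgroup.closure D ≤ Subgroup.normalizer (L : Set G) := by
    rw [Subgroup.closure_le]
    intro d hd
    rw [SetLike.mem_coe, Subgroup.mem_normalizer_iff]
    intro l
    refine ⟨fun hl => h d hd l hl, fun hl => ?_⟩
    have := h d hd _ hl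
    rw [inv_eq hD.1 hd] at this
    simpa [mul_assoc, mul_self_cancel hD.1 hd, mul_self hD.1 hd] using this
  rw [hD.2.2] at hle
  exact Subgroup.normalizer_eq_top_iff.1 (top_le_iff.1 hle)

/-- An abelian normal subgroup of a normal subgroup is trivial. -/
theorem abelian_normal_normal_eq_bot [Finite G] (hrad : TrivialRadical G) (N : Subgroup G)
    [N.Normal] (L : Subgroup G) (hLN : L ≤ N) (hnorm : ∀ n ∈ N, ∀ l ∈ L, n * l * n⁻¹ ∈ L)
    (hab : ∀ a ∈ L, ∀ b ∈ L, a * b = b * a) : L = ⊥ := by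
  by_contra hne
  have hcard : Nat.card L ≠ 1 := fun h => hne (Subgroup.card_eq_one.1 h)
  obtain ⟨p, hp, hdvd⟩ := Nat.exists_prime_and_dvd hcard
  haveI := Fact.mk hp
  obtain ⟨x, hx⟩ := exists_prime_orderOf_dvd_card' p hdvd
  let E : Subgroup N :=
    { carrier := {y : N | (y : G) ∈ L ∧ (y : G) ^ p = 1}
      one_mem' := ⟨L.one_mem, one_pow p⟩
      mul_mem' := fun {a b} ha hb => ⟨L.mul_mem ha.1 hb.1, by
        rw [Subgroup.coe_mul, Commute.mul_pow (hab _ ha.1 _ hb.1), ha.2, hb.2, one_mul]⟩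
      inv_mem' := fun {a} ha => ⟨L.inv_mem ha.1, by rw [Subgroup.coe_inv, inv_pow, ha.2, inv_one]⟩ }
  have hE : E.Normal := ⟨fun y hy g => ⟨hnorm g g.2 y hy.1, by
    show ((g : G) * (y : G) * (g : G)⁻¹) ^ p = 1
    rw [conj_pow, hy.2, mul_one, mul_inv_cancel]⟩⟩
  have hEp : IsPGroup p E := fun y => ⟨1, by
    apply Subtype.ext
    apply Subtype.ext
    simpa using y.2.2⟩
  have h2 : (Cfsg.pCore p N).map N.subtype = ⊥ := by
    refine hrad _ (Cores.map_subtype_normal_of_characteristic N _) ?_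
    have := ((Cores.isPGroup_pCore p N).map N.subtype).isNilpotent
    infer_instance
  have hxN : (x : G) ∈ N := hLN x.2
  have hxp : (x : G) ^ p = 1 := by
    rw [← hx, ← Subgroup.coe_pow, pow_orderOf_eq_one]
    rfl
  have hxE : (⟨(x : G), hxN⟩ : N) ∈ Cfsg.pCore p N := Cores.le_pCore hE hEp ⟨x.2, hxp⟩
  have hx1 : (x : G) = 1 := by
    have : (x : G) ∈ (Cfsg.pCore p N).map N.subtype := ⟨_, hxE, rfl⟩
    rwa [h2, Subgroup.mem_bot] at this
  rw [OneMemClass.coe_eq_one] at hx1
  rw [hx1, orderOf_one] at hx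
  exact hp.ne_one hx.symm

theorem isSolvable_of_pow_two_or_three {L : Type*} [Group L] [Finite L]
    (h : ∀ l : L, l ^ 2 = 1 ∨ l ^ 3 = 1) : Group.IsSolvable L := by
  have key : ∀ q : ℕ, q.Prime → q ∣ Nat.card L → q = 2 ∨ q = 3 := by
    intro q hq hdvd
    haveI := Fact.mk hq
    obtain ⟨l, hl⟩ := exists_prime_orderOf_dvd_card' q hdvd
    rcases h l with h' | h' <;> have := orderOf_dvd_of_pow_eq_one h' <;> rw [hl] at this
    · exact Or.inl ((Nat.prime_dvd_prime_iff_eq hq Nat.prime_two).1 this)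
    · exact Or.inr ((Nat.prime_dvd_prime_iff_eq hq Nat.prime_three).1 this)
  have hn : Nat.card L ≠ 0 := Nat.card_pos.ne'
  have hsub : (Nat.card L).factorization.support ⊆ {2, 3} := by
    intro q hq
    rw [Nat.support_factorization, Nat.mem_primeFactors] at hq
    simpa using key q hq.1 hq.2.1
  have hcard : Nat.card L =
      2 ^ (Nat.card L).factorization 2 * 3 ^ (Nat.card L).factorization 3 := by
    conv_lhs => rw [← Nat.prod_factorization_pow_eq_self hn]
    rw [Finsupp.prod_of_support_subset _ hsub _ (fun _ _ => pow_zero _)]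
    simp
  exact CharApp.isSolvable_of_card_eq_prime_pow_mul 2 3 Nat.prime_two Nat.prime_three _ L rfl _ _
    hcard

variable {r : G → G → Prop}

/-- The kernel of the action on the classes. -/
def classKernel (hD : IsThreeTranspositionGroup D) (hr : IsUniformEquiv D r) : Subgroup G where
  carrier := {g | ∀ d ∈ D, r (g * d * g⁻¹) d}
  one_mem' := fun d hd => by simpa using hr.refl d hd
  mul_mem' := fun {g h} hg hh d hd => by
    have h1 := hD.2.1 h d hd
    have := hr.trans _ _ _ (hD.2.1 g _ h1) h1 hd (hg _ h1) (hh d hd)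
    simpa [mul_assoc] using this
  inv_mem' := fun {g} hg d hd => by
    have h1 := hD.2.1 g⁻¹ d hd
    have := hr.symm _ _ (hD.2.1 g _ h1) h1 (hg _ h1)
    simpa [mul_assoc] using this

theorem classKernel_normal (hD : IsThreeTranspositionGroup D) (hr : IsUniformEquiv D r) :
    (classKernel hD hr).Normal :=
  ⟨fun n hn g d hd => by
    have h1 := hD.2.1 g⁻¹ d hd
    have := hr.conj g _ _ (hD.2.1 n _ h1) h1 (hn _ h1)
    simpa [mul_assoc] using this⟩

theorem mul_mem_classKernel (hD : IsThreeTranspositionGroup D) (hr : IsUniformEquiv D r)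
    {m m' : G} (hm : m ∈ D) (hm' : m' ∈ D) (h : r m m') : m * m' ∈ classKernel hD hr := by
  have cm : ∀ d ∈ D, ∀ e ∈ D, e * d * e ∈ D := fun d hd e he =>
    conj_mem hD.1 hD.2.1 he hd
  have step : ∀ d ∈ D, r (m * d * m) (m' * d * m') := by
    intro d hd
    by_cases hmd : r m d
    · have e1 : r (m * d * m) m := by
        have := hr.conj m _ _ hd hm (hr.symm _ _ hm hd hmd)
        rw [inv_eq hD.1 hm] at this
        simpa [mul_assoc, mul_self hD.1 hm] using this
      have hm'd : r m' d := hr.trans _ _ _ hm' hm hd (hr.symm _ _ hm hm' h) hmd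
      have e2 : r (m' * d * m') m' := by
        have := hr.conj m' _ _ hd hm' (hr.symm _ _ hm' hd hm'd)
        rw [inv_eq hD.1 hm'] at this
        simpa [mul_assoc, mul_self hD.1 hm'] using this
      refine hr.trans _ _ _ (cm d hd m hm) hm' (cm d hd m' hm') ?_
        (hr.symm _ _ (cm d hd m' hm') hm' e2)
      exact hr.trans _ _ _ (cm d hd m hm) hm hm' e1 h
    · by_cases hc : Commute d m
      · have hc' : Commute d m' := hr.uniform m m' d hm hm' hd h hmd hc
        rw [conj_conj_of_commute hD.1 hm hc.symm, conj_conj_of_commute hD.1 hm' hc'.symm]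
        exact hr.refl d hd
      · have hm'd : ¬ r m' d := fun h' => hmd (hr.trans _ _ _ hm hm' hd h h')
        have hc' : ¬ Commute d m' := fun h' =>
          hc (hr.uniform m' m d hm' hm hd (hr.symm _ _ hm hm' h) hm'd h')
        have := hr.conj d _ _ hm hm' h
        rw [inv_eq hD.1 hd, braid hD.1 hd hm hc, braid hD.1 hd hm' hc'] at this
        exact this
  intro d hd
  have h1 := step _ (cm d hd m' hm')
  rw [mul_inv_rev, inv_eq hD.1 hm, inv_eq hD.1 hm']
  simpa [mul_assoc, mul_self_cancel hD.1 hm', mul_self hD.1 hm'] using h1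

/-- The subgroup generated by the products inside one class. -/
def classProd (D : Set G) (r : G → G → Prop) (c : G) : Subgroup G :=
  Subgroup.closure {k | ∃ m ∈ D, ∃ m' ∈ D, r m c ∧ r m' c ∧ k = m * m'}

theorem classProd_le (hD : IsThreeTranspositionGroup D) (hr : IsUniformEquiv D r) {c : G}
    (hc : c ∈ D) : classProd D r c ≤ classKernel hD hr := by
  rw [classProd, Subgroup.closure_le]
  rintro k ⟨m, hm, m', hm', h, h', rfl⟩
  exact mul_mem_classKernel hD hr hm hm' (hr.trans _ _ _ hm hc hm' h (hr.symm _ _ hm' hc h'))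

theorem classProd_conj (hD : IsThreeTranspositionGroup D) (hr : IsUniformEquiv D r) {c c' g : G}
    (hc : c ∈ D) (hc' : c' ∈ D) (hg : r (g * c * g⁻¹) c') {k : G} (hk : k ∈ classProd D r c) :
    g * k * g⁻¹ ∈ classProd D r c' := by
  unfold classProd at hk ⊢
  induction hk using Subgroup.closure_induction with
  | mem k hk =>
    obtain ⟨m, hm, m', hm', h, h', rfl⟩ := hk
    refine Subgroup.subset_closure ⟨_, hD.2.1 g m hm, _, hD.2.1 g m' hm',
      hr.trans _ _ _ (hD.2.1 g m hm) (hD.2.1 g c hc) hc' (hr.conj g _ _ hm hc h) hg,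
      hr.trans _ _ _ (hD.2.1 g m' hm') (hD.2.1 g c hc) hc' (hr.conj g _ _ hm' hc h') hg, ?_⟩
    simp [mul_assoc]
  | one => simp
  | mul x y _ _ hx hy => simpa [mul_assoc] using mul_mem hx hy
  | inv x _ hx => simpa [mul_assoc] using inv_mem hx

theorem commute_of_mem_classProd {c c' : G}
    (h : ∀ u ∈ D, ∀ v ∈ D, r u c → r v c' → Commute u v) {k k' : G}
    (hk : k ∈ classProd D r c) (hk' : k' ∈ classProd D r c') : Commute k k' := by
  unfold classProd at hk hk'
  induction hk using Subgroup.closure_induction with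
  | mem k hk =>
    obtain ⟨m, hm, m', hm', h1, h2, rfl⟩ := hk
    induction hk' using Subgroup.closure_induction with
    | mem k' hk' =>
      obtain ⟨n, hn, n', hn', h3, h4, rfl⟩ := hk'
      exact ((h m hm n hn h1 h3).mul_right (h m hm n' hn' h1 h4)).mul_left
        ((h m' hm' n hn h2 h3).mul_right (h m' hm' n' hn' h2 h4))
    | one => exact Commute.one_right _
    | mul x y _ _ hx hy => exact hx.mul_right hy
    | inv x _ hx => exact hx.inv_right
  | one => exact Commute.one_left _
  | mul x y _ _ hx hy => exact hx.mul_left hy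
  | inv x _ hx => exact hx.inv_left

/-- A nonabelian minimal normal subgroup of a normal subgroup is normal. -/
theorem minimal_normal_normal [Finite G] (hrad : TrivialRadical G)
    (hD : IsThreeTranspositionGroup D) (N : Subgroup G) [hN : N.Normal] (L : Subgroup G)
    (hLN : L ≤ N) (hne : L ≠ ⊥) (hnorm : ∀ n ∈ N, ∀ l ∈ L, n * l * n⁻¹ ∈ L)
    (hmin : ∀ H : Subgroup G, H ≠ ⊥ → H ≤ L → (∀ n ∈ N, ∀ h ∈ H, n * h * n⁻¹ ∈ H) → H = L) :
    L.Normal := by
  refine normal_of_generators hD L fun d hd => ?_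
  let Ld := L.map (MulAut.conj d).toMonoidHom
  have hLd : ∀ n ∈ N, ∀ h ∈ Ld, n * h * n⁻¹ ∈ Ld := by
    rintro n hn _ ⟨l, hl, rfl⟩
    refine ⟨d⁻¹ * n * d * l * (d⁻¹ * n * d)⁻¹, hnorm _ ?_ l hl, by simp [mul_assoc]⟩
    simpa using hN.conj_mem n hn d⁻¹
  rcases eq_or_ne (L ⊓ Ld) ⊥ with h0 | h0
  · exfalso
    have hLdN : Ld ≤ N := by
      rintro _ ⟨l, hl, rfl⟩
      exact hN.conj_mem l (hLN hl) d
    have hcomm : ∀ a ∈ L, ∀ b ∈ Ld, Commute a b := by
      intro a ha b hb
      have h1 : a * b * a⁻¹ * b⁻¹ ∈ L ⊓ Ld := by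
        refine ⟨?_, Ld.mul_mem (hLd a (hLN ha) b hb) (Ld.inv_mem hb)⟩
        have := L.mul_mem ha (hnorm b (hLdN hb) _ (L.inv_mem ha))
        simpa [mul_assoc] using this
      rw [h0, Subgroup.mem_bot, ← commutatorElement_def] at h1
      exact commutatorElement_eq_one_iff_commute.1 h1
    haveI : Group.IsSolvable L := by
      refine isSolvable_of_pow_two_or_three fun l => ?_
      have hl' : d * (l : G) * d⁻¹ ∈ Ld := ⟨l, l.2, rfl⟩
      have hz : d * ((l : G) * d * (l : G)⁻¹) = (d * (l : G) * d⁻¹) * (l : G)⁻¹ := by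
        rw [inv_eq hD.1 hd]; simp only [mul_assoc]
      have key : ∀ n : ℕ, (d * ((l : G) * d * (l : G)⁻¹)) ^ n = 1 → l ^ n = 1 := by
        intro n hn
        rw [hz, ((hcomm _ l.2 _ hl').symm.inv_right).mul_pow, conj_pow, inv_pow,
          mul_inv_eq_one] at hn
        have h1 : (l : G) ^ n ∈ L ⊓ Ld :=
          ⟨L.pow_mem l.2 n, hn ▸ ⟨(l : G) ^ n, L.pow_mem l.2 n, rfl⟩⟩
        rw [h0, Subgroup.mem_bot] at h1
        exact Subtype.ext (by rw [Subgroup.coe_pow, h1]; rfl)
      exact (hD.1.2 d hd _ (hD.2.1 l d hd)).imp (key 2) (key 3)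
    -- a perfect solvable group is trivial
    have hder : ⁅L, L⁆ = L := by
      refine hmin _ (fun h => hne (abelian_normal_normal_eq_bot hrad N L hLN hnorm ?_))
        (Subgroup.commutator_le.2 fun a ha b hb =>
          L.mul_mem (L.mul_mem (L.mul_mem ha hb) (L.inv_mem ha)) (L.inv_mem hb)) ?_
      · intro a ha b hb
        have : ⁅a, b⁆ ∈ (⊥ : Subgroup G) := h ▸ Subgroup.commutator_mem_commutator ha hb
        rw [Subgroup.mem_bot] at this
        exact commutatorElement_eq_one_iff_commute.1 this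
      · intro n hn x hx
        have e : L.map (MulAut.conj n).toMonoidHom ≤ L := by
          rintro _ ⟨l, hl, rfl⟩
          exact hnorm n hn l hl
        have := Subgroup.map_commutator L L (MulAut.conj n).toMonoidHom
        have hmem : n * x * n⁻¹ ∈ (⁅L, L⁆).map (MulAut.conj n).toMonoidHom := ⟨x, hx, rfl⟩
        rw [this] at hmem
        exact Subgroup.commutator_mono e e hmem
    haveI : Nontrivial L := L.nontrivial_iff_ne_bot.2 hne
    have htop : commutator L = ⊤ := by
      rw [commutator_def]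
      apply Subgroup.map_injective L.subtype_injective
      rw [Subgroup.map_commutator, ← MonoidHom.range_eq_map, Subgroup.range_subtype]
      exact hder
    exact Group.IsSolvable.commutator_lt_top_of_nontrivial L |>.ne htop
  · have := hmin _ h0 inf_le_left fun n hn x hx => ⟨hnorm n hn x hx.1, hLd n hn x hx.2⟩
    intro l hl
    obtain ⟨l', hl', rfl⟩ := ((SetLike.ext_iff.1 this l).2 hl).2
    simp only [MulEquiv.coe_toMonoidHom, MulAut.conj_apply, inv_eq hD.1 hd, ← mul_assoc,
      mul_self hD.1 hd, one_mul]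
    simpa [mul_assoc, mul_self hD.1 hd] using hl'

/-- **Block lemma.** -/
theorem no_block [Finite G] (hrad : TrivialRadical G) (hD : IsThreeTranspositionGroup D)
    (hclass : ∀ a ∈ D, ∀ b ∈ D, ∃ g : G, g * a * g⁻¹ = b)
    (hr : IsUniformEquiv D r) {a b : G} (ha : a ∈ D) (hb : b ∈ D) (hab : r a b) (hne : a ≠ b)
    (hcase : (∀ u ∈ D, ∀ v ∈ D, r u a → r v a → Commute u v) ∨
      ∃ c ∈ D, ¬ r a c ∧ Commute a c) : False := by
  set N := classKernel hD hr
  haveI := classKernel_normal hD hr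
  have hKN : classProd D r a ≤ N := classProd_le hD hr ha
  have hKnorm : ∀ n ∈ N, ∀ k ∈ classProd D r a, n * k * n⁻¹ ∈ classProd D r a :=
    fun n hn k hk => classProd_conj hD hr ha ha (hn a ha) hk
  have hKne : classProd D r a ≠ ⊥ := by
    intro h
    have : a * b ∈ classProd D r a :=
      Subgroup.subset_closure ⟨a, ha, b, hb, hr.refl a ha, hr.symm _ _ ha hb hab, rfl⟩
    rw [h, Subgroup.mem_bot, mul_eq_one_iff_eq_inv, inv_eq hD.1 hb] at this
    exact hne this
  let S : Set (Subgroup G) :=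
    {H | H ≠ ⊥ ∧ H ≤ classProd D r a ∧ ∀ n ∈ N, ∀ h ∈ H, n * h * n⁻¹ ∈ H}
  obtain ⟨L, ⟨hLne, hLK, hLnorm⟩, hmin⟩ :=
    Set.exists_min_image S (fun H => Nat.card H) (Set.toFinite _) ⟨_, hKne, le_rfl, hKnorm⟩
  have hmin' : ∀ H : Subgroup G, H ≠ ⊥ → H ≤ L → (∀ n ∈ N, ∀ h ∈ H, n * h * n⁻¹ ∈ H) → H = L :=
    fun H h1 h2 h3 => Subgroup.eq_of_le_of_card_ge h2 (hmin H ⟨h1, h2.trans hLK, h3⟩)
  have hLN := hLK.trans hKN
  have habL : ∀ u ∈ L, ∀ v ∈ L, u * v = v * u := by
    rcases hcase with hall | ⟨c, hc, hnac, hac⟩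
    · exact fun u hu v hv => commute_of_mem_classProd hall (hLK hu) (hLK hv)
    · have hLn := minimal_normal_normal hrad hD N L hLN hLne hLnorm hmin'
      obtain ⟨g, hg⟩ := hclass a ha c hc
      have hall : ∀ u ∈ D, ∀ v ∈ D, r u a → r v c → Commute u v := by
        intro u hu v hv hua hvc
        have h1 : Commute c u := hr.uniform a u c ha hu hc (hr.symm _ _ hu ha hua) hnac hac.symm
        refine hr.uniform c v u hc hv hu (hr.symm _ _ hv hc hvc) (fun h => hnac ?_) h1.symm
        exact hr.trans _ _ _ ha hu hc (hr.symm _ _ hu ha hua) (hr.symm _ _ hc hu h)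
      intro u hu v hv
      refine commute_of_mem_classProd hall (hLK hu) ?_
      have h2 := hLK (hLn.conj_mem v hv g⁻¹)
      have h3 := classProd_conj hD hr ha hc (g := g) (by rw [hg]; exact hr.refl c hc) h2
      simpa [mul_assoc] using h3
  exact hLne (abelian_normal_normal_eq_bot hrad N L hLN hLnorm habL)

end Cfsg.Agent.ThreeTransRank
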