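import Cfsg.Agent.Lib.ThreeTransRank.Block

/-!
# Transitivity of `⟨D_x⟩` on `D_x`

For a class of 3-transpositions in a finite group with trivial solvable radical:
* `nbr_connected`: the non-commuting graph on `D_x` is connected;
* `nbr_transitive`: the subgroup generated by `D_x` is transitive on `D_x`;
* `pair_transitive`: pairs of commuting members of `D` form one orbit.
-/

set_option autoImplicit false

namespace Cfsg.Agent.ThreeTransRank

open Cfsg Cfsg.Agent.ThreeTrans Relation

variable {G : Type*} [Group G] {D : Set G}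

/-- The members other than `x` commuting with `x`. -/
def nbr (D : Set G) (x : G) : Set G := {y | y ∈ D ∧ y ≠ x ∧ Commute x y}

/-- A non-commuting step inside `nbr D x`. -/
def step (D : Set G) (x : G) (u v : G) : Prop := u ∈ nbr D x ∧ v ∈ nbr D x ∧ ¬ Commute u v

/-- The non-commuting component of `a` in `nbr D x`. -/
def comp (D : Set G) (x a : G) : Set G := {z | ReflTransGen (step D x) a z}

theorem step_symm {x u v : G} (h : step D x u v) : step D x v u :=
  ⟨h.2.1, h.1, fun c => h.2.2 c.symm⟩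

theorem mem_nbr_of_mem_comp {x a z : G} (ha : a ∈ nbr D x) (hz : z ∈ comp D x a) : z ∈ nbr D x := by
  change ReflTransGen (step D x) a z at hz
  induction hz with
  | refl => exact ha
  | tail _ h _ => exact h.2.1

theorem comp_reverse {x a z : G} (hz : z ∈ comp D x a) : a ∈ comp D x z := by
  change ReflTransGen (step D x) a z at hz
  induction hz with
  | refl => exact ReflTransGen.refl
  | tail _ h ih => exact ReflTransGen.head (step_symm h) ih

theorem comp_eq {x a z : G} (hz : z ∈ comp D x a) : comp D x z = comp D x a := by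
  ext w
  exact ⟨fun h => ReflTransGen.trans hz h, fun h => ReflTransGen.trans (comp_reverse hz) h⟩

theorem commute_of_not_mem_comp {x a y w : G} (ha : a ∈ nbr D x) (hy : y ∈ nbr D x)
    (hy' : y ∉ comp D x a) (hw : w ∈ comp D x a) : Commute w y := by
  by_contra h
  exact hy' (ReflTransGen.tail hw ⟨mem_nbr_of_mem_comp ha hw, hy, h⟩)

theorem conj_nbr (hD : IsThreeTranspositionGroup D) (g : G) {x y : G} (hy : y ∈ nbr D x) :
    g * y * g⁻¹ ∈ nbr D (g * x * g⁻¹) :=
  ⟨hD.2.1 g y hy.1, fun h => hy.2.1 (mul_left_cancel (mul_right_cancel h)),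
    hy.2.2.map (MulAut.conj g).toMonoidHom⟩

theorem conj_comp (hD : IsThreeTranspositionGroup D) (g : G) {x a z : G} (hz : z ∈ comp D x a) :
    g * z * g⁻¹ ∈ comp D (g * x * g⁻¹) (g * a * g⁻¹) := by
  change ReflTransGen (step D x) a z at hz
  induction hz with
  | refl => exact ReflTransGen.refl
  | @tail u v _ h ih =>
    refine ReflTransGen.tail ih ⟨conj_nbr hD g h.1, conj_nbr hD g h.2.1, fun c => h.2.2 ?_⟩
    have := c.map (MulAut.conj g⁻¹).toMonoidHom
    simpa [mul_assoc] using this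

theorem ncard_comp_conj [Finite G] (hD : IsThreeTranspositionGroup D) (g x a : G) :
    (comp D (g * x * g⁻¹) (g * a * g⁻¹)).ncard = (comp D x a).ncard := by
  refine le_antisymm ?_ ?_
  · refine Set.ncard_le_ncard_of_injOn (fun z => g⁻¹ * z * g) (fun z hz => ?_)
      (fun u _ v _ h => mul_left_cancel (mul_right_cancel h)) (Set.toFinite _)
    have := conj_comp hD g⁻¹ hz
    simpa [mul_assoc] using this
  · exact Set.ncard_le_ncard_of_injOn (fun z => g * z * g⁻¹) (fun z hz => conj_comp hD g hz)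
      (fun u _ v _ h => mul_left_cancel (mul_right_cancel h)) (Set.toFinite _)

/-- `A` is a component of greatest size among all components, at the point `x`. -/
def IsMaxAt (D : Set G) (α : ℕ) (x : G) (A : Set G) : Prop :=
  ∃ a ∈ nbr D x, comp D x a = A ∧ A.ncard = α

theorem nbr_connected [Finite G] (hrad : TrivialRadical G) (hD : IsThreeTranspositionClass D)
    {x a b : G} (hx : x ∈ D) (ha : a ∈ nbr D x) (hb : b ∈ nbr D x) : b ∈ comp D x a := by
  classical
  have hG := group_of_class hD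
  have hclass : ∀ u ∈ D, ∀ v ∈ D, ∃ g : G, g * u * g⁻¹ = v := fun u hu v hv => class_conj hD hu hv
  by_contra hnot
  obtain ⟨⟨x1, a1⟩, ⟨hx1, ha1⟩, hmax⟩ :=
    Set.exists_max_image {p : G × G | p.1 ∈ D ∧ p.2 ∈ nbr D p.1}
      (fun p => (comp D p.1 p.2).ncard) (Set.toFinite _) ⟨(x, a), hx, ha⟩
  set α := (comp D x1 a1).ncard
  have hle : ∀ y ∈ D, ∀ u ∈ nbr D y, (comp D y u).ncard ≤ α := fun y hy u hu =>
    hmax (y, u) ⟨hy, hu⟩
  have hex : ∀ y ∈ D, ∃ A, IsMaxAt D α y A := by
    intro y hy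
    obtain ⟨g, rfl⟩ := hclass x1 hx1 y hy
    exact ⟨_, _, conj_nbr hG g ha1, rfl, ncard_comp_conj hG g x1 a1⟩
  have hα : 1 ≤ α := Nat.one_le_iff_ne_zero.2
    ((Set.ncard_pos (Set.toFinite _)).2 ⟨a1, ReflTransGen.refl⟩).ne'
  rcases eq_or_lt_of_le hα with h1 | h1
  · -- every component is a single point
    have hpair : ∀ y ∈ D, ∀ u ∈ nbr D y, ∀ v ∈ nbr D y, Commute u v := by
      intro y hy u hu v hv
      by_contra h
      have huv : u ≠ v := fun e => h (e ▸ Commute.refl u)
      have h2 : ({u, v} : Set G) ⊆ comp D y u := by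
        rintro w (rfl | rfl)
        · exact ReflTransGen.refl
        · exact ReflTransGen.single ⟨hu, hv, h⟩
      have h3 := Set.ncard_le_ncard h2 (Set.toFinite _)
      rw [Set.ncard_pair huv] at h3
      have := hle y hy u hu
      omega
    have hkey : ∀ y ∈ D, ∀ u ∈ D, Commute y u → ∀ d ∈ D, Commute d y → Commute d u := by
      intro y hy u hu hc d hd hdy
      by_cases hdy' : d = y
      · exact hdy' ▸ hc
      by_cases huy : u = y
      · exact huy ▸ hdy
      exact hpair y hy d ⟨hd, hdy', hdy.symm⟩ u ⟨hu, huy, hc⟩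
    refine no_block hrad hG hclass (r := fun u v => Commute u v)
      ⟨fun u _ => Commute.refl u, fun u v _ _ h => h.symm,
        fun u v w hu hv hw h h' => hkey v hv w hw h' u hu h,
        fun g u v _ _ h => h.map (MulAut.conj g).toMonoidHom,
        fun u v d hu hv hd _ hn hc => absurd hc.symm hn⟩
      hx ha.1 ha.2.2 ha.2.1.symm (Or.inl fun u hu v hv hua hvb => hkey x hx v hv hvb.symm u hu hua)
  -- a greatest component has an internal edge
  have hedge : ∀ {y A}, IsMaxAt D α y A → ∀ w ∈ A, ∃ w' ∈ A, ¬ Commute w w' := by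
    intro y A hA w hw
    obtain ⟨u, hu, rfl, hcard⟩ := hA
    obtain ⟨z, hz, hzw⟩ : ∃ z ∈ comp D y u, z ≠ w := by
      by_contra h
      push Not at h
      have := Set.ncard_le_ncard (s := comp D y u) (t := {w}) (fun z hz => h z hz) (Set.toFinite _)
      rw [Set.ncard_singleton, hcard] at this
      omega
    rw [← comp_eq hw] at hz
    rcases ReflTransGen.cases_head (show ReflTransGen (step D y) w z from hz) with h | ⟨c, hc, -⟩
    · exact absurd h.symm hzw
    · exact ⟨c, ReflTransGen.tail hw hc, hc.2.2⟩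
  have hsub : ∀ {y A}, IsMaxAt D α y A → A ⊆ D := by
    rintro y A ⟨u, hu, rfl, -⟩ w hw
    exact (mem_nbr_of_mem_comp hu hw).1
  have hcomm : ∀ {y A}, IsMaxAt D α y A → ∀ w ∈ A, Commute y w := by
    rintro y A ⟨u, hu, rfl, -⟩ w hw
    exact (mem_nbr_of_mem_comp hu hw).2.2
  let M : Set G → Set G := fun A => {m | m ∈ D ∧ ∀ w ∈ A, Commute m w}
  have hMA : ∀ {y A}, IsMaxAt D α y A → ∀ m ∈ M A, m ∉ A := by
    intro y A hA m hm hmA
    obtain ⟨w', hw', h⟩ := hedge hA m hmA
    exact h (hm.2 w' hw')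
  have hmove : ∀ {y A}, IsMaxAt D α y A → ∀ m ∈ M A, IsMaxAt D α m A := by
    intro y A hA m hm
    have hnb : ∀ w ∈ A, w ∈ nbr D m := fun w hw =>
      ⟨hsub hA hw, fun e => hMA hA m hm (e ▸ hw), hm.2 w hw⟩
    obtain ⟨u, hu, rfl, hcard⟩ := hA
    have huA : u ∈ comp D y u := ReflTransGen.refl
    have hincl : comp D y u ⊆ comp D m u := by
      intro z hz
      have hz' : ReflTransGen (step D y) u z := hz
      clear hz
      induction hz' with
      | refl => exact ReflTransGen.refl
      | @tail v w h hs ih =>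
        exact ReflTransGen.tail ih
          ⟨hnb v h, hnb w (ReflTransGen.tail (show v ∈ comp D y u from h) hs), hs.2.2⟩
    have heq := Set.eq_of_subset_of_ncard_le hincl
      (hcard ▸ hle m hm.1 u (hnb u huA)) (Set.toFinite _)
    exact ⟨u, hnb u huA, heq.symm, hcard⟩
  have hout : ∀ {y A}, IsMaxAt D α y A → ∀ m ∈ M A, ∀ d ∈ D, d ∉ A → Commute d m → d ∈ M A := by
    intro y A hA m hm d hd hdA hc
    rcases eq_or_ne d m with rfl | hne
    · exact hm
    obtain ⟨u, hu, hAeq, -⟩ := hmove hA m hm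
    subst hAeq
    exact ⟨hd, fun w hw => (commute_of_not_mem_comp hu ⟨hd, hne, hc.symm⟩ hdA hw).symm⟩
  by_cases huniq : ∀ y ∈ D, ∀ A A', IsMaxAt D α y A → IsMaxAt D α y A' → A = A'
  · -- one greatest component at each point
    choose! F hF using hex
    have hclassM : ∀ y ∈ D, ∀ z ∈ D, (F y = F z ↔ z ∈ M (F y)) := by
      intro y hy z hz
      refine ⟨fun h => ⟨hz, fun w hw => hcomm (hF z hz) w (h ▸ hw)⟩, fun h => ?_⟩
      exact huniq z hz _ _ (hmove (hF y hy) z h) (hF z hz)
    have hFconj : ∀ g : G, ∀ y ∈ D,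
        F (g * y * g⁻¹) = (fun z => g * z * g⁻¹) '' F y := by
      intro g y hy
      refine huniq _ (hG.2.1 g y hy) _ _ (hF _ (hG.2.1 g y hy)) ?_
      obtain ⟨u, hu, he, hc⟩ := hF y hy
      refine ⟨_, conj_nbr hG g hu, ?_, ?_⟩
      · rw [← he]
        ext z
        constructor
        · intro hz
          refine ⟨g⁻¹ * z * g, ?_, by simp [mul_assoc]⟩
          have := conj_comp hG g⁻¹ hz
          simpa [mul_assoc] using this
        · rintro ⟨w, hw, rfl⟩
          exact conj_comp hG g hw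
      · rw [Set.ncard_image_of_injective _ fun u v h => mul_left_cancel (mul_right_cancel h)]
        exact hc
    obtain ⟨w, hw⟩ : (F x).Nonempty := by
      obtain ⟨u, -, he, -⟩ := hF x hx
      exact ⟨u, he ▸ ReflTransGen.refl⟩
    obtain ⟨b', hb', hb'A⟩ : ∃ b' ∈ nbr D x, b' ∉ F x := by
      obtain ⟨u, -, he, -⟩ := hF x hx
      by_contra h
      push Not at h
      apply hnot
      have ha' := h a ha
      rw [← he] at ha'
      rw [comp_eq ha', he]
      exact h b hb
    have hb'M : b' ∈ M (F x) := by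
      obtain ⟨u, hu, he, -⟩ := hF x hx
      exact ⟨hb'.1, fun z hz => (commute_of_not_mem_comp hu hb' (he ▸ hb'A) (he ▸ hz)).symm⟩
    refine no_block hrad hG hclass (r := fun u v => F u = F v)
      ⟨fun u _ => rfl, fun u v _ _ h => h.symm, fun u v w _ _ _ h h' => h.trans h',
        fun g u v hu hv h => by rw [hFconj g u hu, hFconj g v hv, h], ?_⟩
      hx hb'.1 ((hclassM x hx b' hb'.1).2 hb'M) hb'.2.1.symm
      (Or.inr ⟨w, hsub (hF x hx) hw, fun h => hMA (hF x hx) w
        ((hclassM x hx w (hsub (hF x hx) hw)).1 h) hw, hcomm (hF x hx) w hw⟩)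
    intro u v d hu hv hd huv hud hc
    have hdM : d ∉ M (F u) := fun h => hud ((hclassM u hu d hd).2 h)
    have huM : u ∈ M (F u) := (hclassM u hu u hu).1 rfl
    have hvM : v ∈ M (F u) := (hclassM u hu v hv).1 huv
    by_cases hdA : d ∈ F u
    · exact (hvM.2 d hdA).symm
    · exact absurd (hout (hF u hu) u huM d hd hdA hc) hdM
  · -- two greatest components at one point
    push Not at huniq
    obtain ⟨y, hy, A, A', hA, hA', hne⟩ := huniq
    have hA'M : A' ⊆ M A := by
      intro z hz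
      refine ⟨hsub hA' hz, fun w hw => ?_⟩
      obtain ⟨u, hu, rfl, -⟩ := hA
      obtain ⟨u', hu', rfl, -⟩ := hA'
      have hzn : z ∉ comp D y u := fun h => hne ((comp_eq h).symm.trans (comp_eq hz))
      exact (commute_of_not_mem_comp hu (mem_nbr_of_mem_comp hu' hz) hzn hw).symm
    have hyM : y ∈ M A := ⟨hy, fun w hw => hcomm hA w hw⟩
    have hall : ∀ w ∈ A, ∀ d ∈ D, d ∉ A → d ∉ M A → ¬ Commute w d := by
      intro w hw d hd hdA hdM hc
      have hdw : d ≠ w := fun e => hdA (e ▸ hw)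
      have hdn : d ∈ nbr D w := ⟨hd, hdw, hc⟩
      have hMc : insert y A' ⊆ comp D w d := by
        intro m hm
        have hmM : m ∈ M A := by
          rcases hm with rfl | hm
          · exact hyM
          · exact hA'M hm
        have hmw : m ∈ nbr D w :=
          ⟨hmM.1, fun e => hMA hA m hmM (e ▸ hw), (hmM.2 w hw).symm⟩
        exact ReflTransGen.single ⟨hdn, hmw, fun h => hdM (hout hA m hmM d hd hdA h)⟩
      have hy' : y ∉ A' := by
        obtain ⟨u', hu', rfl, -⟩ := hA'
        exact fun h => (mem_nbr_of_mem_comp hu' h).2.1 rfl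
      have := Set.ncard_le_ncard hMc (Set.toFinite _)
      rw [Set.ncard_insert_of_notMem hy'] at this
      obtain ⟨u', -, -, hc'⟩ := hA'
      have := hle w (hsub hA hw) d hdn
      omega
    let C : G → G → Prop := fun u v => u ∈ D ∧ v ∈ D ∧ Commute u v
    let E : G → G → Prop := fun u v =>
      u ∈ D ∧ v ∈ D ∧ ¬ Commute u v ∧ EqvGen C u v
    have hclosed : ∀ u v, EqvGen C u v → (u ∈ A ∪ M A ↔ v ∈ A ∪ M A) := by
      have one : ∀ u v, u ∈ D → v ∈ D → Commute u v → u ∈ A ∪ M A → v ∈ A ∪ M A := by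
        intro u v hu hv hc hus
        by_contra hvs
        simp only [Set.mem_union, not_or] at hvs
        rcases hus with h | h
        · exact hall u h v hv hvs.1 hvs.2 hc
        · exact hvs.2 (hout hA u h v hv hvs.1 hc.symm)
      intro u v h
      induction h with
      | rel u v h => exact ⟨one u v h.1 h.2.1 h.2.2, one v u h.2.1 h.1 h.2.2.symm⟩
      | refl => exact Iff.rfl
      | symm _ _ _ ih => exact ih.symm
      | trans _ _ _ _ _ ih1 ih2 => exact ih1.trans ih2
    have hEA : ∀ u v, EqvGen E u v → (u ∈ A ↔ v ∈ A) := by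
      have one : ∀ u v, E u v → u ∈ A → v ∈ A := by
        rintro u v ⟨hu, hv, hn, hcc⟩ huA
        rcases ((hclosed u v hcc).1 (Or.inl huA)) with h | h
        · exact h
        · exact absurd (h.2 u huA).symm hn
      intro u v h
      induction h with
      | rel u v h => exact ⟨one u v h, one v u ⟨h.2.1, h.1, fun c => h.2.2.1 c.symm,
          EqvGen.symm _ _ h.2.2.2⟩⟩
      | refl => exact Iff.rfl
      | symm _ _ _ ih => exact ih.symm
      | trans _ _ _ _ _ ih1 ih2 => exact ih1.trans ih2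
    have hEC : ∀ u v, EqvGen E u v → EqvGen C u v := by
      intro u v h
      induction h with
      | rel u v h => exact h.2.2.2
      | refl => exact EqvGen.refl _
      | symm _ _ _ ih => exact EqvGen.symm _ _ ih
      | trans _ _ _ _ _ ih1 ih2 => exact EqvGen.trans _ _ _ ih1 ih2
    have hCconj : ∀ g u v : G, EqvGen C u v → EqvGen C (g * u * g⁻¹) (g * v * g⁻¹) := by
      intro g u v h
      induction h with
      | rel u v h =>
        exact EqvGen.rel _ _
          ⟨hG.2.1 g u h.1, hG.2.1 g v h.2.1, h.2.2.map (MulAut.conj g).toMonoidHom⟩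
      | refl => exact EqvGen.refl _
      | symm _ _ _ ih => exact EqvGen.symm _ _ ih
      | trans _ _ _ _ _ ih1 ih2 => exact EqvGen.trans _ _ _ ih1 ih2
    have hEconj : ∀ g u v : G, EqvGen E u v → EqvGen E (g * u * g⁻¹) (g * v * g⁻¹) := by
      intro g u v h
      induction h with
      | rel u v h =>
        refine EqvGen.rel _ _ ⟨hG.2.1 g u h.1, hG.2.1 g v h.2.1, fun c => h.2.2.1 ?_,
          hCconj g u v h.2.2.2⟩
        have := c.map (MulAut.conj g⁻¹).toMonoidHom
        simpa [mul_assoc] using this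
      | refl => exact EqvGen.refl _
      | symm _ _ _ ih => exact EqvGen.symm _ _ ih
      | trans _ _ _ _ _ ih1 ih2 => exact EqvGen.trans _ _ _ ih1 ih2
    obtain ⟨w, hw⟩ : A.Nonempty := by
      obtain ⟨u, -, he, -⟩ := hA
      exact ⟨u, he ▸ ReflTransGen.refl⟩
    obtain ⟨w', hw', hww'⟩ := hedge hA w hw
    have hCw : EqvGen C w w' :=
      EqvGen.trans _ y _ (EqvGen.rel _ _ ⟨hsub hA hw, hy, (hcomm hA w hw).symm⟩)
        (EqvGen.rel _ _ ⟨hy, hsub hA hw', hcomm hA w' hw'⟩)
    refine no_block hrad hG hclass (r := EqvGen E)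
      ⟨fun u _ => EqvGen.refl u, fun u v _ _ h => EqvGen.symm _ _ h,
        fun u v z _ _ _ h h' => EqvGen.trans _ _ _ h h', fun g u v _ _ h => hEconj g u v h, ?_⟩
      (hsub hA hw) (hsub hA hw')
      (EqvGen.rel _ _ ⟨hsub hA hw, hsub hA hw', hww', hCw⟩) (fun e => hww' (e ▸ Commute.refl w))
      (Or.inr ⟨y, hy, fun h => hMA hA y hyM ((hEA w y h).1 hw), (hcomm hA w hw).symm⟩)
    intro u v d hu hv hd huv hud hc
    by_contra hn
    have hdv : EqvGen E d v := EqvGen.rel _ _ ⟨hd, hv, hn,
      EqvGen.trans _ u _ (EqvGen.rel _ _ ⟨hd, hu, hc⟩) (hEC _ _ huv)⟩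
    exact hud (EqvGen.trans _ _ _ huv (EqvGen.symm _ _ hdv))

theorem nbr_transitive [Finite G] (hrad : TrivialRadical G) (hD : IsThreeTranspositionClass D)
    {x a b : G} (hx : x ∈ D) (ha : a ∈ nbr D x) (hb : b ∈ nbr D x) :
    ∃ g ∈ Subgroup.closure (nbr D x), g * a * g⁻¹ = b := by
  have h : ReflTransGen (step D x) a b := nbr_connected hrad hD hx ha hb
  clear hb
  induction h with
  | refl => exact ⟨1, one_mem _, by simp⟩
  | @tail u v _ h ih =>
    obtain ⟨g, hg, rfl⟩ := ih
    set u := g * a * g⁻¹ with hu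
    refine ⟨u * v * g, mul_mem (mul_mem (Subgroup.subset_closure h.1)
      (Subgroup.subset_closure h.2.1)) hg, ?_⟩
    have hb := braid hD.1 h.1.1 h.2.1.1 h.2.2
    calc u * v * g * a * (u * v * g)⁻¹ = u * v * u * v⁻¹ * u⁻¹ := by
          rw [hu]; simp only [mul_inv_rev, mul_assoc]
      _ = v := by
          rw [hb, inv_eq hD.1 h.1.1, inv_eq hD.1 h.2.1.1]
          simp only [mul_assoc, mul_self_cancel hD.1 h.2.1.1, mul_self_cancel hD.1 h.1.1,
            mul_self hD.1 h.1.1, mul_one]

theorem pair_transitive [Finite G] (hrad : TrivialRadical G) (hD : IsThreeTranspositionClass D)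
    {a b c d : G} (ha : a ∈ D) (hb : b ∈ D) (hc : c ∈ D) (hd : d ∈ D) (hab : Commute a b)
    (hcd : Commute c d) (hne : a ≠ b) (hne' : c ≠ d) :
    ∃ g : G, g * a * g⁻¹ = c ∧ g * b * g⁻¹ = d := by
  obtain ⟨g₁, hg₁⟩ := class_conj hD ha hc
  have h1 : g₁ * b * g₁⁻¹ ∈ nbr D c :=
    hg₁ ▸ conj_nbr (group_of_class hD) g₁ ⟨hb, hne.symm, hab⟩
  obtain ⟨h, hh, he⟩ := nbr_transitive hrad hD hc h1 ⟨hd, hne'.symm, hcd⟩
  have hcen : Commute h c := by
    have hle : Subgroup.closure (nbr D c) ≤ Subgroup.centralizer {c} := by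
      rw [Subgroup.closure_le]
      intro z hz
      rw [SetLike.mem_coe, Subgroup.mem_centralizer_iff]
      simp only [Set.mem_singleton_iff, forall_eq]
      exact hz.2.2
    have := Subgroup.mem_centralizer_iff.1 (hle hh) c rfl
    exact this.symm
  refine ⟨h * g₁, ?_, ?_⟩
  · calc h * g₁ * a * (h * g₁)⁻¹ = h * (g₁ * a * g₁⁻¹) * h⁻¹ := by simp only [mul_inv_rev, mul_assoc]
      _ = c := by rw [hg₁, hcen.eq, mul_assoc, mul_inv_cancel, mul_one]
  · calc h * g₁ * b * (h * g₁)⁻¹ = h * (g₁ * b * g₁⁻¹) * h⁻¹ := by simp only [mul_inv_rev, mul_assoc]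
      _ = d := he

end Cfsg.Agent.ThreeTransRank
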